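import Groth.Agent.UnitTensor.Basic

/-! Connected reduced affine algebraic groups over an algebraically closed field are integral; their units are
characters.  (The translation argument is `HopfKrull`, at general universes.) -/

universe u v

open TensorProduct WithConv

noncomputable section

namespace Groth.Agent.HopfDomain

variable {k : Type u} [Field k] {A : Type v} [CommRing A] [HopfAlgebra k A]

/-- Constant map at a point, as an endomorphism. -/
abbrev cst (g : WithConv (A →ₐ[k] k)) : WithConv (A →ₐ[k] A) := toConv ((Algebra.ofId k A).comp g.ofConv)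

/-- Translation by a point. -/
def tau (g : WithConv (A →ₐ[k] k)) : A →ₐ[k] A := (toConv (AlgHom.id k A) * cst g).ofConv

lemma cst_mul (g h : WithConv (A →ₐ[k] k)) : cst (g * h) = cst g * cst h := by
  refine WithConv.ext ?_
  exact AlgHom.comp_convMul_distrib _ _ _

lemma cst_one : cst (1 : WithConv (A →ₐ[k] k)) = 1 := rfl

lemma tau_comp (g h : WithConv (A →ₐ[k] k)) : (tau g).comp (tau h) = tau (g * h) := by
  unfold tau
  rw [AlgHom.comp_convMul_distrib, cst_mul, ← mul_assoc]
  congr 2
  exact WithConv.ext (AlgHom.ext fun a => (tau g).commutes _)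

lemma tau_one : tau (1 : WithConv (A →ₐ[k] k)) = AlgHom.id k A := by
  rw [tau, cst_one, mul_one, ofConv_toConv]

lemma comp_tau (h g : WithConv (A →ₐ[k] k)) : toConv (h.ofConv.comp (tau g)) = h * g := by
  refine WithConv.ext ?_
  unfold tau
  rw [ofConv_toConv, AlgHom.comp_convMul_distrib]
  congr 2
  exact WithConv.ext (AlgHom.ext fun a => h.ofConv.commutes _)

lemma tau_apply (g : WithConv (A →ₐ[k] k)) (a : A) :
    tau g a = TensorProduct.rid k A (g.ofConv.toLinearMap.lTensor A (CoalgebraStruct.comul (R := k) a)) := by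
  rw [tau, AlgHom.convMul_apply]
  induction CoalgebraStruct.comul (R := k) a using TensorProduct.induction_on with
  | zero => simp
  | tmul x y => simp [Algebra.smul_def, mul_comm, Algebra.ofId_apply]
  | add x y hx hy => simp only [map_add, hx, hy]

lemma isAssociatedPrime_comap [IsNoetherianRing A] (g : WithConv (A →ₐ[k] k)) {p : Ideal A}
    (hp : p ∈ associatedPrimes A A) : p.comap (tau g) ∈ associatedPrimes A A := by
  rw [AssociatedPrimes.mem_iff, isAssociatedPrime_iff] at hp ⊢
  obtain ⟨hp', x, rfl⟩ := hp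
  refine ⟨Ideal.comap_isPrime _ _, tau g⁻¹ x, ?_⟩
  have hinv : ∀ a, tau g⁻¹ (tau g a) = a := fun a => by
    rw [← AlgHom.comp_apply, tau_comp, inv_mul_cancel, tau_one, AlgHom.id_apply]
  have hinv' : ∀ a, tau g (tau g⁻¹ a) = a := fun a => by
    rw [← AlgHom.comp_apply, tau_comp, mul_inv_cancel, tau_one, AlgHom.id_apply]
  ext r
  simp only [Ideal.mem_comap, Submodule.mem_colon_singleton, Submodule.mem_bot, smul_eq_mul]
  constructor
  · intro h
    have := congrArg (tau g⁻¹) h
    rwa [map_mul, map_zero, hinv] at this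
  · intro h
    have := congrArg (tau g) h
    rwa [map_mul, map_zero, hinv'] at this

/-- Equations of the points whose translation carries `p` back over `q`. -/
def coef (p q : Ideal A) : Ideal A :=
  Ideal.span {a | ∃ f ∈ q, ∃ φ : (A ⧸ p) →ₗ[k] k,
    a = TensorProduct.lid k A ((φ ∘ₗ (Ideal.Quotient.mkₐ k p).toLinearMap).rTensor A (CoalgebraStruct.comul (R := k) f))}

lemma coef_le_ker_iff (p q : Ideal A) (g : WithConv (A →ₐ[k] k)) :
    coef (k := k) p q ≤ RingHom.ker g.ofConv ↔ q ≤ p.comap (tau g) := by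
  have key : ∀ (f : A) (φ : (A ⧸ p) →ₗ[k] k),
      g.ofConv (TensorProduct.lid k A ((φ ∘ₗ (Ideal.Quotient.mkₐ k p).toLinearMap).rTensor A
        (CoalgebraStruct.comul (R := k) f))) = φ (Ideal.Quotient.mk p (tau g f)) := by
    intro f φ
    rw [tau_apply]
    induction CoalgebraStruct.comul (R := k) f using TensorProduct.induction_on with
    | zero => simp
    | tmul x y =>
      simp only [LinearMap.rTensor_tmul, TensorProduct.lid_tmul, LinearMap.lTensor_tmul, TensorProduct.rid_tmul,
        LinearMap.comp_apply, AlgHom.toLinearMap_apply, map_smul, Ideal.Quotient.mkₐ_eq_mk]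
      rw [← Ideal.Quotient.mkₐ_eq_mk k, map_smul, map_smul, smul_eq_mul, smul_eq_mul, mul_comm]
    | add x y hx hy => simp only [map_add, hx, hy]
  constructor
  · intro h f hf
    rw [Ideal.mem_comap, ← Ideal.Quotient.eq_zero_iff_mem, ← Module.forall_dual_apply_eq_zero_iff k]
    intro φ
    rw [← key]
    exact h (Ideal.subset_span ⟨f, hf, φ, rfl⟩)
  · intro h
    refine Ideal.span_le.2 ?_
    rintro _ ⟨f, hf, φ, rfl⟩
    show g.ofConv _ = 0
    rw [key, Ideal.Quotient.eq_zero_iff_mem.2 (Ideal.mem_comap.1 (h hf)), map_zero]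

/-- Equations of the points whose translation carries `p` exactly to `q`. -/
def coefEq (p q : Ideal A) : Ideal A :=
  coef (k := k) p q ⊔ (coef (k := k) q p).map (HopfAlgebra.antipodeAlgHom k A)

lemma coefEq_le_ker_iff (p q : Ideal A) (g : WithConv (A →ₐ[k] k)) :
    coefEq (k := k) p q ≤ RingHom.ker g.ofConv ↔ p.comap (tau g) = q := by
  rw [coefEq, sup_le_iff, coef_le_ker_iff, Ideal.map_le_iff_le_comap,
    show (RingHom.ker g.ofConv).comap (HopfAlgebra.antipodeAlgHom k A) = RingHom.ker (g⁻¹).ofConv from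
      RingHom.comap_ker _ _, coef_le_ker_iff]
  have hinv : ∀ a, tau g⁻¹ (tau g a) = a := fun a => by
    rw [← AlgHom.comp_apply, tau_comp, inv_mul_cancel, tau_one, AlgHom.id_apply]
  have hinv' : ∀ a, tau g (tau g⁻¹ a) = a := fun a => by
    rw [← AlgHom.comp_apply, tau_comp, mul_inv_cancel, tau_one, AlgHom.id_apply]
  constructor
  · rintro ⟨h1, h2⟩
    refine le_antisymm (fun a ha => ?_) h1
    have := h2 ha
    rwa [Ideal.mem_comap, hinv] at this
  · rintro rfl
    refine ⟨le_rfl, fun a ha => ?_⟩
    rwa [Ideal.mem_comap, Ideal.mem_comap, hinv']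

variable [IsAlgClosed k] [Algebra.FiniteType k A]

lemma exists_point (M : Ideal A) [M.IsMaximal] : ∃ g : WithConv (A →ₐ[k] k), RingHom.ker g.ofConv = M := by
  letI : Field (A ⧸ M) := Ideal.Quotient.field M
  have hf : Algebra.FiniteType k (A ⧸ M) := .of_surjective (Ideal.Quotient.mkₐ k M) Ideal.Quotient.mk_surjective
  have : Module.Finite k (A ⧸ M) := finite_of_finite_type_of_isJacobsonRing k (A ⧸ M)
  have hbij := IsAlgClosed.algebraMap_bijective_of_isIntegral (k := k) (K := A ⧸ M)
  refine ⟨toConv ((AlgEquiv.ofBijective (Algebra.ofId k (A ⧸ M)) hbij).symm.toAlgHom.comp (Ideal.Quotient.mkₐ k M)), ?_⟩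
  ext a
  simp [RingHom.mem_ker, Ideal.Quotient.eq_zero_iff_mem]

/-- Every translation fixes every associated prime. -/
theorem comap_tau_eq (hconn : ∀ e : A, IsIdempotentElem e → e = 0 ∨ e = 1) {p : Ideal A}
    (hp : p ∈ associatedPrimes A A) (g : WithConv (A →ₐ[k] k)) : p.comap (tau g) = p := by
  classical
  have : IsNoetherianRing A := Algebra.FiniteType.isNoetherianRing k A
  have : IsJacobsonRing A := isJacobsonRing_of_finiteType (A := k)
  let S := (associatedPrimes.finite A A).toFinset
  let J : Ideal A := coefEq (k := k) p p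
  let K : Ideal A := (S.erase p).inf fun q => coefEq (k := k) p q
  rw [← coefEq_le_ker_iff]
  have hone : J ≤ RingHom.ker (1 : WithConv (A →ₐ[k] k)).ofConv :=
    (coefEq_le_ker_iff p p 1).2 (by rw [tau_one]; exact Ideal.comap_id p)
  have hnot : ∀ M : Ideal A, M.IsMaximal → J ≤ M → ¬ K ≤ M := by
    intro M hM hJ hK
    obtain ⟨h, rfl⟩ := exists_point (k := k) M
    obtain ⟨q, hq, hq'⟩ := (Ideal.IsPrime.inf_le' hM.isPrime).1 hK
    rw [Finset.mem_erase] at hq
    rw [coefEq_le_ker_iff] at hJ hq'
    exact hq.1 (hq'.symm.trans hJ)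
  have hcov : ∀ M : Ideal A, M.IsMaximal → J ≤ M ∨ K ≤ M := by
    intro M hM
    obtain ⟨h, rfl⟩ := exists_point (k := k) M
    by_cases he : p.comap (tau h) = p
    · exact Or.inl ((coefEq_le_ker_iff p p h).2 he)
    · refine Or.inr (le_trans (Finset.inf_le (Finset.mem_erase.2 ⟨he, ?_⟩)) ((coefEq_le_ker_iff p _ h).2 rfl))
      exact (associatedPrimes.finite A A).mem_toFinset.2 (isAssociatedPrime_comap h hp)
  have hcop : J ⊔ K = ⊤ := by
    by_contra hne
    obtain ⟨M, hM, hle⟩ := Ideal.exists_le_maximal _ hne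
    exact hnot M hM (le_sup_left.trans hle) (le_sup_right.trans hle)
  have hnil : ∀ a ∈ J, ∀ b ∈ K, a * b ∈ nilradical A := by
    intro a ha b hb
    have hjac : (nilradical A).jacobson = nilradical A :=
      IsJacobsonRing.out inferInstance (Ideal.radical_isRadical (⊥ : Ideal A))
    rw [← hjac, Ideal.jacobson, Submodule.mem_sInf]
    rintro (M : Ideal A) ⟨-, hM⟩
    rcases hcov M hM with h | h
    · exact Ideal.mul_mem_right _ M (h ha)
    · exact Ideal.mul_mem_left M _ (h hb)
  obtain ⟨a, ha, b, hb, hab⟩ := Submodule.mem_sup.1 ((Ideal.eq_top_iff_one _).1 hcop)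
  obtain ⟨N, hN⟩ := hnil a ha b hb
  replace hN : (a * b) ^ N = 0 := hN
  have hcN : IsCoprime (a ^ N) (b ^ N) := IsCoprime.pow ⟨1, 1, by rw [one_mul, one_mul, hab]⟩
  obtain ⟨x, y, hxy⟩ := hcN
  rw [mul_pow] at hN
  have he : IsIdempotentElem (x * a ^ N) := by
    show x * a ^ N * (x * a ^ N) = x * a ^ N
    linear_combination (x * a ^ N) * hxy - (x * y) * hN
  rcases hconn _ he with h0 | h1
  · have hbu : IsUnit (b ^ N) := IsUnit.of_mul_eq_one y (by rw [h0, zero_add] at hxy; rw [mul_comm, hxy])
    intro z hz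
    have h0 := hnil z hz b hb
    have hzN : z ∈ nilradical A := by
      rcases eq_or_ne N 0 with rfl | hN0
      · rw [pow_zero, pow_zero, one_mul] at hN
        rw [← mul_one z, hN, mul_zero]
        exact zero_mem _
      · obtain ⟨u, hu⟩ := (isUnit_pow_iff hN0).1 hbu
        rw [← hu] at h0
        simpa using (nilradical A).mul_mem_right (↑u⁻¹) h0
    haveI : (RingHom.ker g.ofConv).IsPrime := RingHom.ker_isPrime _
    exact (nilradical_le_prime (RingHom.ker g.ofConv)) hzN
  · exfalso
    rcases eq_or_ne N 0 with rfl | hN0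
    · rw [pow_zero, pow_zero, one_mul] at hN
      have := congrArg (1 : WithConv (A →ₐ[k] k)).ofConv hN
      rw [map_one, map_zero] at this
      exact one_ne_zero this
    · have hu : IsUnit (a ^ N) := IsUnit.of_mul_eq_one x (by rw [mul_comm, h1])
      have := ((isUnit_pow_iff hN0).1 hu).map (1 : WithConv (A →ₐ[k] k)).ofConv
      rw [RingHom.mem_ker.1 (hone ha)] at this
      exact not_isUnit_zero this

include k in
theorem le_nilradical (hconn : ∀ e : A, IsIdempotentElem e → e = 0 ∨ e = 1) {p : Ideal A}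
    (hp : p ∈ associatedPrimes A A) : p ≤ nilradical A := by
  have : IsNoetherianRing A := Algebra.FiniteType.isNoetherianRing k A
  have : IsJacobsonRing A := isJacobsonRing_of_finiteType (A := k)
  have hpp : p.IsPrime := IsAssociatedPrime.isPrime hp
  obtain ⟨M₀, hM₀, hpM⟩ := Ideal.exists_le_maximal p hpp.ne_top
  obtain ⟨h, rfl⟩ := exists_point (k := k) M₀
  intro a ha
  have hjac : (nilradical A).jacobson = nilradical A :=
    IsJacobsonRing.out inferInstance (Ideal.radical_isRadical (⊥ : Ideal A))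
  rw [← hjac, Ideal.jacobson, Submodule.mem_sInf]
  rintro M ⟨-, hM⟩
  obtain ⟨x, rfl⟩ := exists_point (k := k) M
  rw [← comap_tau_eq hconn hp (h⁻¹ * x)] at ha
  have h2 : h.ofConv.comp (tau (h⁻¹ * x)) = x.ofConv := by
    exact (congrArg WithConv.ofConv (comp_tau h (h⁻¹ * x))).trans (by rw [mul_inv_cancel_left])
  show x.ofConv a = 0
  rw [← h2]
  exact hpM ha

include k in
theorem isDomain (hconn : ∀ e : A, IsIdempotentElem e → e = 0 ∨ e = 1) [_root_.IsReduced A] : IsDomain A := by
  have : IsNoetherianRing A := Algebra.FiniteType.isNoetherianRing k A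
  haveI : Nontrivial A := (Bialgebra.counitAlgHom k A).toRingHom.domain_nontrivial
  obtain ⟨p, hp⟩ := associatedPrimes.nonempty A A
  haveI : p.IsPrime := IsAssociatedPrime.isPrime hp
  have h : p = ⊥ := le_bot_iff.mp ((le_nilradical (k := k) hconn hp).trans (nilradical_eq_zero A).le)
  haveI : (⊥ : Ideal A).IsPrime := h ▸ inferInstance
  exact IsDomain.of_bot_isPrime A

/-- A unit of `A ⊗ A` restricting to `u` on both axes is `u ⊗ u`. -/
theorem eq_tmul_of_isUnit {R : Type*} [CommRing R] [Algebra k R] [Algebra.FiniteType k R] [IsDomain R]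
    (ε : R →ₐ[k] k) {u : R} (hu : ε u = 1) {x : R ⊗[k] R} (hx : IsUnit x)
    (hl : Algebra.TensorProduct.lift (AlgHom.id k R) ((Algebra.ofId k R).comp ε) (fun _ _ => .all _ _) x = u)
    (hr : Algebra.TensorProduct.lift ((Algebra.ofId k R).comp ε) (AlgHom.id k R) (fun _ _ => .all _ _) x = u) :
    x = u ⊗ₜ[k] u := by
  obtain ⟨y, hy⟩ := hx.exists_right_inv
  obtain ⟨b, a, rfl⟩ := UnitTensor.exists_eq_tmul_of_mul_eq_one hy
  simp only [Algebra.TensorProduct.lift_tmul, AlgHom.id_apply, AlgHom.comp_apply, Algebra.ofId_apply] at hl hr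
  have h1 : ε b * ε a = 1 := by
    have := congrArg ε hl
    rwa [map_mul, AlgHom.commutes, hu] at this
  conv_rhs => lhs; rw [← hl, mul_comm, ← Algebra.smul_def]
  conv_rhs => rhs; rw [← hr, ← Algebra.smul_def]
  rw [TensorProduct.smul_tmul_smul, mul_comm, h1, one_smul]

include k in
/-- Rosenlicht: a unit normalised at the neutral element is a character. -/
theorem comul_unit (hconn : ∀ e : A, IsIdempotentElem e → e = 0 ∨ e = 1) [_root_.IsReduced A] {u : A}
    (hu : IsUnit u) (he : Bialgebra.counitAlgHom k A u = 1) : Bialgebra.comulAlgHom k A u = u ⊗ₜ[k] u := by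
  haveI := isDomain (k := k) hconn
  have hl : ∀ z : A ⊗[k] A, Algebra.TensorProduct.lift (AlgHom.id k A)
      ((Algebra.ofId k A).comp (Bialgebra.counitAlgHom k A)) (fun _ _ => .all _ _) z =
      TensorProduct.rid k A ((CoalgebraStruct.counit (R := k) (A := A)).lTensor A z) := by
    intro z
    induction z using TensorProduct.induction_on with
    | zero => simp
    | add y z hy hz => simp only [map_add, hy, hz]
    | tmul p q => simp [Algebra.smul_def, mul_comm, Algebra.ofId_apply]
  have hr : ∀ z : A ⊗[k] A, Algebra.TensorProduct.lift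
      ((Algebra.ofId k A).comp (Bialgebra.counitAlgHom k A)) (AlgHom.id k A) (fun _ _ => .all _ _) z =
      TensorProduct.lid k A ((CoalgebraStruct.counit (R := k) (A := A)).rTensor A z) := by
    intro z
    induction z using TensorProduct.induction_on with
    | zero => simp
    | add y z hy hz => simp only [map_add, hy, hz]
    | tmul p q => simp [Algebra.smul_def, Algebra.ofId_apply]
  refine eq_tmul_of_isUnit _ he (hu.map _) ?_ ?_
  · rw [hl, Bialgebra.comulAlgHom_apply, Coalgebra.lTensor_counit_comul]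
    simp
  · rw [hr, Bialgebra.comulAlgHom_apply, Coalgebra.rTensor_counit_comul]
    simp

end Groth.Agent.HopfDomain
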